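import Cfsg.Agent.SB.B2.Lam

/-!
# S5765, `Sp₄(2^a)` with graph automorphisms: two order bounds (helper52)

* `card_le_of_graph` : if `c1 y = φ (c2 y)` on the centralizer of the regular element `v` then `|C(v)| ≤ 4 q`;
* `card_exc` : over the field with four elements `|C(a, b)| ≤ 9` in the exceptional configuration.
-/

set_option autoImplicit false
set_option linter.unusedSectionVars false

namespace Cfsg.Agent.SB.B2

open Matrix Cfsg.Agent.ClassicalGeometry.Sp4Graph Cfsg.Agent.H88.FC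

theorem card_le_two_mul {α β : Type*} [Finite β] (f : α → β)
    (h : ∀ a a' a'', f a' = f a → f a'' = f a → a' = a ∨ a'' = a ∨ a' = a'') : Nat.card α ≤ 2 * Nat.card β := by
  classical
  rcases isEmpty_or_nonempty α with h0 | h0
  · simp
  have h1 := Nat.card_le_card_of_injective (fun a : α => (f a, decide (a = Function.invFun f (f a)))) (by
    intro a a' e
    have e1 : f a = f a' := congrArg Prod.fst e
    have e2 : decide (a = Function.invFun f (f a)) = decide (a' = Function.invFun f (f a')) := congrArg Prod.snd e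
    rw [← e1, decide_eq_decide] at e2
    have e3 : f (Function.invFun f (f a)) = f a := Function.invFun_eq ⟨a, rfl⟩
    rcases h (Function.invFun f (f a)) a a' e3.symm (e1.symm.trans e3.symm) with h2 | h2 | h2
    · exact h2.trans (e2.1 h2).symm
    · exact (e2.2 h2).trans h2.symm
    · exact h2)
  rwa [Nat.card_prod, Nat.card_eq_fintype_card (α := Bool), Fintype.card_bool, mul_comm] at h1

variable {F : Type*} [Field F] [CharP F 2]

section graph

variable {v : Matrix.symplecticGroup (Fin 2) F} {φ : F ≃+* F}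

/-- `F[v + v⁻¹]` is a field -/
theorem unit_of_inK (hv : Reg v) (h : ∀ y : Matrix.symplecticGroup (Fin 2) F, y * v = v * y → c1 y = φ (c2 y))
    {X : Matrix I4 I4 F} (hX : InK (W (v : Matrix I4 I4 F)) X) (h0 : X ≠ 0) : ∃ u : Matrix I4 I4 F, u * X = 1 := by
  have hw2 := W_sq' v
  obtain ⟨u, hu, hu1⟩ := W_mul_inv hv
  have hc1 := hv.c1
  have hns := hv.ns
  set w := W (v : Matrix I4 I4 F) with hw
  set c₁ := (v : Matrix I4 I4 F).trace with hc1d
  set c₂ := (graphHom F v : Matrix I4 I4 F).trace with hc2d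
  obtain ⟨α, β, hαβ⟩ := id hX
  have h1 : (X + (β * c₁) • (1 : Matrix I4 I4 F)) * X = (α * α + α * β * c₁ + β * β * c₂) • (1 : Matrix I4 I4 F) := by
    have e : (α • (1 : Matrix I4 I4 F) + β • w + (β * c₁) • (1 : Matrix I4 I4 F)) * (α • (1 : Matrix I4 I4 F) + β • w) =
        (α * α + α * β * c₁) • (1 : Matrix I4 I4 F) + (α * β + α * β) • w + (β * β * c₁) • w + (β * β) • (w * w) := by
      simp only [add_mul, mul_add, smul_mul_assoc, mul_smul_comm, one_mul, mul_one]
      module
    have e2 : (α * α + α * β * c₁) • (1 : Matrix I4 I4 F) + (0 : F) • w + (β * β * c₁) • w +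
        (β * β) • (c₁ • w + c₂ • (1 : Matrix I4 I4 F)) =
        (α * α + α * β * c₁ + β * β * c₂) • (1 : Matrix I4 I4 F) + (β * β * c₁ + β * β * c₁) • w := by module
    rw [hαβ, e, hw2, CharTwo.add_self_eq_zero, e2, CharTwo.add_self_eq_zero, zero_smul, add_zero]
  by_cases hn : α * α + α * β * c₁ + β * β * c₂ = 0
  swap
  · exact ⟨(α * α + α * β * c₁ + β * β * c₂)⁻¹ • (X + (β * c₁) • (1 : Matrix I4 I4 F)), by
      rw [smul_mul_assoc, h1, smul_smul, inv_mul_cancel₀ hn, one_smul]⟩
  exfalso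
  have hβ : β ≠ 0 := by
    rintro rfl
    apply h0
    have : α = 0 := by simpa using hn
    rw [hαβ, this]
    simp
  have hβc : β * c₁ ≠ 0 := mul_ne_zero hβ hc1
  rw [hn, zero_smul, add_mul, smul_mul_assoc, one_mul] at h1
  have h2 : X * X = (β * c₁) • X := CharTwo.add_eq_zero.1 h1
  set e : Matrix I4 I4 F := (β * c₁)⁻¹ • X with he
  have hee : e * e = e := by
    rw [he, smul_mul_smul_comm, h2, smul_smul, mul_assoc, inv_mul_cancel₀ hβc, mul_one]
  have heK : InK w e := hX.smul _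
  have hse : st e = e := heK.st (st_W _)
  have hev : e * v = v * e := heK.comm_of (W_self_comm v)
  have hev' : e * st (v : Matrix I4 I4 F) = st (v : Matrix I4 I4 F) * e := comm_st hev
  have hXe : X = (β * c₁) • e := by rw [he, smul_smul, mul_inv_cancel₀ hβc, one_smul]
  clear_value e
  have hef : e * (1 + e) = 0 := by rw [mul_add, mul_one, hee]; exact CharTwo.add_self_eq_zero _
  have hfe : (1 + e) * e = 0 := by rw [add_mul, one_mul, hee]; exact CharTwo.add_self_eq_zero _
  have hff : (1 + e) * (1 + e) = 1 + e := by rw [mul_add, mul_one, hfe, add_zero]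
  have hst : st (e * (v : Matrix I4 I4 F) + (1 + e)) = e * st (v : Matrix I4 I4 F) + (1 + e) := by
    rw [st_add, st_mul, st_add, st_one, hse, hev']
  have hmem : (e * (v : Matrix I4 I4 F) + (1 + e)) * st (e * (v : Matrix I4 I4 F) + (1 + e)) = 1 := by
    rw [hst]
    have e1 : (e * v + (1 + e)) * (e * st (v : Matrix I4 I4 F) + (1 + e)) =
        e * (v * e) * st (v : Matrix I4 I4 F) + (e * v) * (1 + e) + ((1 + e) * e) * st (v : Matrix I4 I4 F) +
          (1 + e) * (1 + e) := by noncomm_ring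
    have e2 : (e * v) * (1 + e) = 0 := by rw [hev, mul_assoc, hef, mul_zero]
    rw [e1, ← hev, e2, hfe, hff, ← mul_assoc, hee, mul_assoc, mul_st, mul_one, zero_mul, add_zero, add_zero, add_comm 1 e,
      ← add_assoc, CharTwo.add_self_eq_zero, zero_add]
  let n : Matrix.symplecticGroup (Fin 2) F := ⟨e * v + (1 + e), (mem_iff _).2 hmem⟩
  have hnv : n * v = v * n := by
    apply Subtype.ext
    change (e * v + (1 + e)) * (v : Matrix I4 I4 F) = v * (e * v + (1 + e))
    rw [add_mul, add_mul, mul_add, mul_add, one_mul, mul_one, ← mul_assoc, ← hev]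
  have hWn : W (n : Matrix I4 I4 F) = e * w := by
    change W (e * (v : Matrix I4 I4 F) + (1 + e)) = _
    rw [W, hst, hw, W, mul_add]
    have e1 : e * v + (1 + e) + (e * st (v : Matrix I4 I4 F) + (1 + e)) =
      e * v + e * st (v : Matrix I4 I4 F) + ((1 + e) + (1 + e)) := by abel
    rw [e1, CharTwo.add_self_eq_zero, add_zero]
  have h3 := W_sq'' n
  rw [hWn] at h3
  have h4 : c2 n = 0 := by
    by_contra h5
    have h6 := congrArg (fun M : Matrix I4 I4 F => (1 + e) * M) h3
    simp only [mul_add (1 + e), mul_smul_comm, ← mul_assoc, hfe, zero_mul, smul_zero, mul_one, zero_add] at h6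
    have h7 : 1 + e = 0 := (smul_eq_zero.1 h6.symm).resolve_left h5
    have h8 : e = 1 := (CharTwo.add_eq_zero.1 h7).symm
    rw [h8, hαβ] at hXe
    have h9 : α • (1 : Matrix I4 I4 F) + β • w = (β * c₁) • (1 : Matrix I4 I4 F) + (0 : F) • w := by
      rw [hXe, zero_smul, add_zero]
    exact hβ (InK.coeff hns h9).2
  rw [h n hnv, h4, map_zero, zero_smul, zero_smul, add_zero] at h3
  have h5 := InK.sq_eq_zero hc1 hw2 hns (heK.mul hw2 InK.self) h3
  apply h0
  have h6 : e * w * u = 0 := by rw [h5, zero_mul]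
  rw [mul_assoc, InK.self.comm hu, hu1, mul_one] at h6
  rw [hXe, h6, smul_zero]

theorem eq_or_inv (hv : Reg v) (h : ∀ y : Matrix.symplecticGroup (Fin 2) F, y * v = v * y → c1 y = φ (c2 y))
    {y z : Matrix.symplecticGroup (Fin 2) F} (hy : y * v = v * y) (hz : z * v = v * z)
    (e : W (y : Matrix I4 I4 F) = W (z : Matrix I4 I4 F)) : y = z ∨ y = z⁻¹ := by
  have hy' : (y : Matrix I4 I4 F) * v = v * y := congrArg Subtype.val hy
  have hz' : (z : Matrix I4 I4 F) * v = v * z := congrArg Subtype.val hz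
  obtain ⟨u, hu, hu1⟩ := W_mul_inv hv
  have hs : ((y : Matrix I4 I4 F) + z) * v = v * ((y : Matrix I4 I4 F) + z) := by rw [add_mul, mul_add, hy', hz']
  obtain ⟨α, β, hα, hβ, hX⟩ := exists_of_comm hv hs
  have h1 : β * W (v : Matrix I4 I4 F) = 0 := by
    rw [← W_form hα hβ, ← hX, W_add, e]
    exact CharTwo.add_self_eq_zero _
  have h2 : β = 0 := by
    have h5 : β * W (v : Matrix I4 I4 F) * u = 0 := by rw [h1, zero_mul]
    rwa [mul_assoc, InK.self.comm hu, hu1, mul_one] at h5
  rw [h2, zero_mul, add_zero] at hX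
  by_cases h0 : (y : Matrix I4 I4 F) + z = 0
  · exact Or.inl (Subtype.ext (CharTwo.add_eq_zero.1 h0))
  right
  obtain ⟨t, ht⟩ := unit_of_inK hv h (hX ▸ hα) h0
  have h3 : ((y : Matrix I4 I4 F) + z) * (y + st (z : Matrix I4 I4 F)) = 0 := by
    have e1 : ((y : Matrix I4 I4 F) + z) * (y + st (z : Matrix I4 I4 F)) =
      y * y + (z * y + y * st (z : Matrix I4 I4 F)) + z * st (z : Matrix I4 I4 F) := by noncomm_ring
    rw [e1, comm_of_comm hv hz' hy', ← mul_add, mul_st]
    change _ + (y : Matrix I4 I4 F) * W (z : Matrix I4 I4 F) + 1 = 0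
    rw [← e, W, mul_add, mul_st, ← add_assoc, CharTwo.add_self_eq_zero, zero_add]
    exact CharTwo.add_self_eq_zero _
  have h4 : (y : Matrix I4 I4 F) + st (z : Matrix I4 I4 F) = 0 := by
    have h5 := congrArg (fun M : Matrix I4 I4 F => t * M) h3
    simpa only [← mul_assoc, ht, one_mul, mul_zero] using h5
  apply Subtype.ext
  rw [coe_inv]
  exact CharTwo.add_eq_zero.1 h4

theorem W_eq_or (hv : Reg v) (h : ∀ y : Matrix.symplecticGroup (Fin 2) F, y * v = v * y → c1 y = φ (c2 y))
    {y z : Matrix.symplecticGroup (Fin 2) F} (hy : y * v = v * y) (hz : z * v = v * z) (e : c2 y = c2 z) :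
    W (y : Matrix I4 I4 F) = W (z : Matrix I4 I4 F) ∨
      W (y : Matrix I4 I4 F) = W (z : Matrix I4 I4 F) + c1 z • (1 : Matrix I4 I4 F) := by
  have h1 := W_inK hv (congrArg Subtype.val hy : (y : Matrix I4 I4 F) * v = v * y)
  have h2 := W_inK hv (congrArg Subtype.val hz : (z : Matrix I4 I4 F) * v = v * z)
  have h3 := W_sq'' y
  have h4 := W_sq'' z
  have h5 : c1 y = c1 z := by rw [h y hy, h z hz, e]
  rw [h5, e] at h3
  set P := W (y : Matrix I4 I4 F) with hP
  set Q := W (z : Matrix I4 I4 F) with hQ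
  by_cases h0 : P + Q = 0
  · exact Or.inl (CharTwo.add_eq_zero.1 h0)
  right
  obtain ⟨t, ht⟩ := unit_of_inK hv h (h1.add h2) h0
  have h6 : (P + Q) * (P + (Q + c1 z • (1 : Matrix I4 I4 F))) = 0 := by
    have e1 : (P + Q) * (P + (Q + c1 z • (1 : Matrix I4 I4 F))) =
        P * P + Q * Q + (P * Q + Q * P) + c1 z • P + c1 z • Q := by
      simp only [add_mul, mul_add, mul_smul_comm, mul_one, smul_add]
      abel
    have e2 : c1 z • P + c2 z • (1 : Matrix I4 I4 F) + (c1 z • Q + c2 z • (1 : Matrix I4 I4 F)) + 0 + c1 z • P + c1 z • Q =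
        (c1 z • P + c1 z • Q + c2 z • (1 : Matrix I4 I4 F)) + (c1 z • P + c1 z • Q + c2 z • (1 : Matrix I4 I4 F)) := by
      abel
    rw [e1, h1.comm h2, CharTwo.add_self_eq_zero, h3, h4, e2]
    exact CharTwo.add_self_eq_zero _
  have h7 := congrArg (fun M : Matrix I4 I4 F => t * M) h6
  simp only [← mul_assoc, ht, one_mul, mul_zero] at h7
  exact CharTwo.add_eq_zero.1 h7

theorem card_le_of_graph [Finite F] (hv : Reg v)
    (h : ∀ y : Matrix.symplecticGroup (Fin 2) F, y * v = v * y → c1 y = φ (c2 y)) :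
    Nat.card (Subgroup.centralizer {v}) ≤ 4 * Nat.card F := by
  have hm : ∀ y : Subgroup.centralizer {v}, (y : Matrix.symplecticGroup (Fin 2) F) * v = v * y :=
    fun y => Subgroup.mem_centralizer_singleton_iff.1 y.2
  let g : Subgroup.centralizer {v} → Matrix I4 I4 F := fun y => W ((y : Matrix.symplecticGroup (Fin 2) F) : Matrix I4 I4 F)
  have h1 := card_le_two_mul (Set.rangeFactorization g) (by
    intro a a' a'' e1 e2
    rcases eq_or_inv hv h (hm a') (hm a) (congrArg Subtype.val e1) with h2 | h2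
    · exact Or.inl (Subtype.ext h2)
    rcases eq_or_inv hv h (hm a'') (hm a) (congrArg Subtype.val e2) with h3 | h3
    · exact Or.inr (Or.inl (Subtype.ext h3))
    · exact Or.inr (Or.inr (Subtype.ext (h2.trans h3.symm))))
  have h2 := card_le_two_mul (fun X : Set.range g => c2 (X.2.choose : Matrix.symplecticGroup (Fin 2) F)) (by
    intro a a' a'' e1 e2
    have s : ∀ X : Set.range g, W ((X.2.choose : Matrix.symplecticGroup (Fin 2) F) : Matrix I4 I4 F) = X :=
      fun X => X.2.choose_spec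
    rcases W_eq_or hv h (hm _) (hm _) e1 with h2 | h2
    · rw [s, s] at h2
      exact Or.inl (Subtype.ext h2)
    rcases W_eq_or hv h (hm _) (hm _) e2 with h3 | h3
    · rw [s, s] at h3
      exact Or.inr (Or.inl (Subtype.ext h3))
    · have h4 := h2.trans h3.symm
      rw [s, s] at h4
      exact Or.inr (Or.inr (Subtype.ext h4)))
  omega

end graph

section exc

theorem W_inK' {v : Matrix.symplecticGroup (Fin 2) F} (hv : (v : Matrix I4 I4 F).trace ≠ 0) {X : Matrix I4 I4 F}
    (hX : X * v = v * X) : InK (W (v : Matrix I4 I4 F)) (W X) := by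
  obtain ⟨k, hk⟩ := W_comm (v : Matrix I4 I4 F) X
  have h1 : W (v : Matrix I4 I4 F) * W X = W X * W (v : Matrix I4 I4 F) := by
    rw [W.eq_1 X, mul_add, add_mul, comm_W hX, comm_W (st_comm hX)]
  have h2 : W (v : Matrix I4 I4 F) * W X + W X * W (v : Matrix I4 I4 F) = 0 := by
    rw [h1]
    exact CharTwo.add_self_eq_zero _
  rw [h2] at hk
  set c := (v : Matrix I4 I4 F).trace with hc
  refine ⟨c⁻¹ * k, c⁻¹ * X.trace, ?_⟩
  have h3 : c • W X = X.trace • W (v : Matrix I4 I4 F) + k • (1 : Matrix I4 I4 F) := by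
    have h4 : c • W X + (X.trace • W (v : Matrix I4 I4 F) + k • (1 : Matrix I4 I4 F)) = 0 := by
      rw [hk]; abel
    exact CharTwo.add_eq_zero.1 h4
  calc W X = c⁻¹ • (c • W X) := by rw [smul_smul, inv_mul_cancel₀ hv, one_smul]
    _ = _ := by rw [h3]; module

theorem card_sol (h4 : ∀ x : F, x = 0 ∨ x ^ 3 = 1) :
    Nat.card {p : F × F | p.1 ^ 2 + p.1 * p.2 + p.2 ^ 2 = 1} ≤ 3 := by
  classical
  have h2 : (2 : F) = 0 := CharTwo.two_eq_zero
  have hsq : ∀ x : F, x ^ 2 = 1 → x = 1 := fun x hx => CharTwo.sq_injective (by simpa using hx)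
  have h1 : {p : F × F | p.1 ^ 2 + p.1 * p.2 + p.2 ^ 2 = 1} ⊆ (({(1, 0), (0, 1), (1, 1)} : Finset (F × F)) : Set (F × F)) := by
    rintro ⟨x, y⟩ h
    have h' : x ^ 2 + x * y + y ^ 2 = 1 := h
    simp only [Finset.coe_insert, Finset.coe_singleton, Set.mem_insert_iff, Set.mem_singleton_iff, Prod.mk.injEq]
    rcases h4 x with hx | hx
    · exact Or.inr (Or.inl ⟨hx, hsq y (by rw [hx] at h'; linear_combination h')⟩)
    rcases h4 y with hy | hy
    · exact Or.inl ⟨hsq x (by rw [hy] at h'; linear_combination h'), hy⟩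
    have h5 : x = y := by linear_combination (-(x - y)) * h' + hx - hy
    subst h5
    have h6 := hsq x (by linear_combination h' - x ^ 2 * h2)
    exact Or.inr (Or.inr ⟨h6, h6⟩)
  rw [Nat.card_coe_set_eq]
  exact (Set.ncard_le_ncard h1).trans (by rw [Set.ncard_coe_finset]; exact Finset.card_le_three)

theorem card_exc [Finite F] (h4 : ∀ x : F, x = 0 ∨ x ^ 3 = 1) {a b : Matrix.symplecticGroup (Fin 2) F} (h : Exc a b) :
    Nat.card (Subgroup.centralizer {a, b}) ≤ 9 := by
  have h2 : (2 : F) = 0 := CharTwo.two_eq_zero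
  obtain ⟨hcomm, hWa, hWb, htb⟩ := h
  have ht : (b : Matrix I4 I4 F).trace ≠ 0 := by rw [htb]; exact one_ne_zero
  have hns : ∀ c : F, W (b : Matrix I4 I4 F) ≠ c • (1 : Matrix I4 I4 F) := fun c hc => ht (trace_eq_zero hc)
  have hea : W (b : Matrix I4 I4 F) * a = a * W (b : Matrix I4 I4 F) := comm_W hcomm
  have hea' : W (b : Matrix I4 I4 F) * st (a : Matrix I4 I4 F) = st (a : Matrix I4 I4 F) * W (b : Matrix I4 I4 F) :=
    comm_st hea
  have key : ∀ X : Subgroup.centralizer {a, b}, ∃ p q : {p : F × F | p.1 ^ 2 + p.1 * p.2 + p.2 ^ 2 = 1},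
      ((X : Matrix.symplecticGroup (Fin 2) F) : Matrix I4 I4 F) =
        (p.1.1 • (1 : Matrix I4 I4 F) + (q.1.1 - p.1.1) • W (b : Matrix I4 I4 F)) +
          (p.1.2 • (1 : Matrix I4 I4 F) + (q.1.2 - p.1.2) • W (b : Matrix I4 I4 F)) * st (a : Matrix I4 I4 F) := by
    rintro ⟨x, hx⟩
    have hxa : (x : Matrix I4 I4 F) * a = a * x :=
      (congrArg Subtype.val (Subgroup.mem_centralizer_iff.1 hx a (by simp))).symm
    have hxb : (x : Matrix I4 I4 F) * b = b * x :=
      (congrArg Subtype.val (Subgroup.mem_centralizer_iff.1 hx b (by simp))).symm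
    have hxx := mul_st x
    set X : Matrix I4 I4 F := (x : Matrix I4 I4 F) with hX
    have hβ := W_inK' ht hxb
    have hα := W_inK' ht (X := (a : Matrix I4 I4 F) * X) (by rw [mul_assoc, hxb, ← mul_assoc, hcomm, mul_assoc])
    have h1 : X = W ((a : Matrix I4 I4 F) * X) + W X * st (a : Matrix I4 I4 F) := by
      have e1 : W ((a : Matrix I4 I4 F) * X) + W X * st (a : Matrix I4 I4 F) = X * W (a : Matrix I4 I4 F) +
          (st X * st (a : Matrix I4 I4 F) + st X * st (a : Matrix I4 I4 F)) := by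
        rw [W, W, W, st_mul, ← hxa]
        noncomm_ring
      rw [e1, hWa, CharTwo.add_self_eq_zero, mul_one, add_zero]
    have hsα := hα.st (st_W _)
    have hsβ := hβ.st (st_W _)
    have hαa := hα.comm_of hea'
    have hβa := hβ.comm_of hea'
    have hαβ := hα.comm hβ
    have h3 : W ((a : Matrix I4 I4 F) * X) * W ((a : Matrix I4 I4 F) * X) + W ((a : Matrix I4 I4 F) * X) * W X + W X * W X = 1 := by
      rw [← hxx]
      conv_rhs => rw [h1]
      rw [st_add, st_mul, st_st, hsα, hsβ]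
      generalize W ((a : Matrix I4 I4 F) * X) = α at *
      generalize W X = β at *
      have e1 : (α + β * st (a : Matrix I4 I4 F)) * (α + a * β) =
        α * α + α * a * β + β * (st (a : Matrix I4 I4 F) * α) + β * (st (a : Matrix I4 I4 F) * a) * β := by noncomm_ring
      have e2 : α * a * β + α * (β * st (a : Matrix I4 I4 F)) = α * β := by
        rw [hβa, mul_assoc, ← mul_add, ← add_mul]
        change α * (W (a : Matrix I4 I4 F) * β) = _
        rw [hWa, one_mul]
      rw [e1, st_mul_self, mul_one, ← hαa, ← mul_assoc β α, ← hαβ, mul_assoc α β, add_assoc (α * α) (α * (a : Matrix I4 I4 F) * β), e2]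
    obtain ⟨α₀, α₁, e1⟩ := hα
    obtain ⟨β₀, β₁, e2⟩ := hβ
    rw [e1, e2] at h1 h3
    set e := W (b : Matrix I4 I4 F) with he
    have h5 : (α₀ • (1 : Matrix I4 I4 F) + α₁ • e) * (α₀ • (1 : Matrix I4 I4 F) + α₁ • e) +
        (α₀ • (1 : Matrix I4 I4 F) + α₁ • e) * (β₀ • (1 : Matrix I4 I4 F) + β₁ • e) +
        (β₀ • (1 : Matrix I4 I4 F) + β₁ • e) * (β₀ • (1 : Matrix I4 I4 F) + β₁ • e) =
        (α₀ ^ 2 + α₀ * β₀ + β₀ ^ 2) • (1 : Matrix I4 I4 F) +
          (2 * α₀ * α₁ + α₁ ^ 2 + α₀ * β₁ + α₁ * β₀ + α₁ * β₁ + 2 * β₀ * β₁ + β₁ ^ 2) • e := by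
      simp only [add_mul, mul_add, smul_mul_assoc, mul_smul_comm, one_mul, mul_one, hWb]
      module
    rw [h5] at h3
    obtain ⟨h6, h7⟩ := InK.coeff hns (c := 1) (d := 0) (by rw [h3, one_smul, zero_smul, add_zero])
    refine ⟨⟨(α₀, β₀), h6⟩, ⟨(α₀ + α₁, β₀ + β₁), ?_⟩, ?_⟩
    · show (α₀ + α₁) ^ 2 + (α₀ + α₁) * (β₀ + β₁) + (β₀ + β₁) ^ 2 = 1
      linear_combination h6 + h7
    · simpa only [add_sub_cancel_left] using h1
  choose p q hpq using key
  have h5 := Nat.card_le_card_of_injective (fun X => (p X, q X)) (by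
    intro X Y e
    have e1 : p X = p Y := congrArg Prod.fst e
    have e2 : q X = q Y := congrArg Prod.snd e
    apply Subtype.ext
    apply Subtype.ext
    rw [hpq X, hpq Y, e1, e2])
  rw [Nat.card_prod] at h5
  have h6 := card_sol h4
  exact h5.trans (Nat.mul_le_mul h6 h6)

end exc

end Cfsg.Agent.SB.B2
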