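import Cfsg.Agent.SB.B2.Abs
import Cfsg.Agent.SB.B2.Card
import Cfsg.Agent.SB.Cl.Defs
import Cfsg.Agent.H545.FC.NoInv
import Cfsg.Agent.LieClassical.SympCount

/-!
# S5765, `Sp₄(2^a)` with graph automorphisms (helper52)

`boxB2 : Cl.BoxB2`.
-/

set_option autoImplicit false
set_option linter.unusedSectionVars false

namespace Cfsg.Agent.SB.B2

open Cfsg Cfsg.Agent.H786.FC Cfsg.Agent.H88.FC Cfsg.Agent.H319.FC
open Cfsg.Agent.ClassicalGeometry.Sp4Graph Cfsg.Agent.ClassicalGeometry.SympBasic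
open Cfsg.Agent.ClassicalGeometry.SympAutSemi

universe u

section aut

variable {G : Type u} [Group G] [Finite G] [IsSimpleGroup G] {S : Subgroup (MulAut G)} {N : Subgroup G}

theorem comm_iff (hG : ¬ IsMulCommutative G) (α : MulAut G) (y : G) :
    α * MulAut.conj y = MulAut.conj y * α ↔ α y = y := by
  rw [← mul_inv_eq_iff_eq_mul, aut_conj]
  exact (conj_injective hG).eq_iff

theorem card_inn (hG : ¬ IsMulCommutative G) : Nat.card (InnG G) = Nat.card G :=
  (Nat.card_congr (innEquiv hG).toEquiv).symm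

theorem map_inv_mem (hinv : ∀ α ∈ S, ∀ n ∈ N, α n ∈ N) :
    ∀ s ∈ S, ∀ v ∈ N.map (MulAut.conj : G →* MulAut G), s * v * s⁻¹ ∈ N.map (MulAut.conj : G →* MulAut G) := by
  rintro s hs _ ⟨n, hn, rfl⟩
  exact ⟨s n, hinv s hs n hn, (aut_conj s n).symm⟩

theorem card_aut_le (hG : ¬ IsMulCommutative G) (hinv : ∀ α ∈ S, ∀ n ∈ N, α n ∈ N) {n : ℕ} (v : Fin n → G)
    (hv : ∀ i, v i ∈ N) (hC : ∀ t : G, (∀ i, t * v i = v i * t) → t ∈ N) :
    Nat.card ↥(S ⊓ InnG G) ≤ Nat.card N ^ (n + 1) := by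
  rw [← Subgroup.card_map_of_injective (K := N) (conj_injective hG)]
  refine card_inf_le_pow (map_inv_mem hinv) (fun i => MulAut.conj (v i)) (fun i => ⟨v i, hv i, rfl⟩) ?_
  rintro _ ⟨t, rfl⟩ h
  refine ⟨t, hC t fun i => conj_injective hG ?_, rfl⟩
  rw [map_mul, map_mul]
  exact h i

theorem seven_aut (hG : ¬ IsMulCommutative G) (hb : 360 < Nat.card G) (hS : Group.IsSolvable S)
    (hm : MaxInv (InnG G) S) (hNS : ∀ n ∈ N, MulAut.conj n ∈ S) (hinv : ∀ α ∈ S, ∀ n ∈ N, α n ∈ N)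
    (hNc : ∀ a ∈ N, ∀ b ∈ N, a * b = b * a) (hodd : ∀ n ∈ N, n * n = 1 → n = 1) {a b : G} (ha : a ∈ N) (hb' : b ∈ N)
    (h2 : ∀ k k' : MulAut G, k a = a → k b = b → k' a = a → k' b = b → k ∈ N.map (MulAut.conj : G →* MulAut G) ∨
      k' ∈ N.map (MulAut.conj : G →* MulAut G) ∨ k * k' ∈ N.map (MulAut.conj : G →* MulAut G))
    (hbig : ∀ β : MulAut G, β ∉ N.map (MulAut.conj : G →* MulAut G) → (∀ n ∈ N, β n = n) →
      Nat.card ↥(S ⊓ InnG G) * Nat.card ↥(S ⊓ InnG G) + 14 * Nat.card ↥(S ⊓ InnG G) < Nat.card G)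
    (hkey : ∀ y : G, MulAut.conj y ∈ S → (∃ n ∈ N, orderOf y = orderOf n) → y ∈ N) : Seven (InnG G) S := by
  have hT := as_inn hG
  have hns : ¬ Group.IsSolvable G := fun h => hG ⟨⟨IsSimpleGroup.comm_iff_isSolvable.2 h⟩⟩
  obtain ⟨x, hx⟩ := exists_inf_conj hns N hNc
  refine seven_of_pair (N := N.map (MulAut.conj : G →* MulAut G)) hT hS hm
    (hT.seven_le (by rwa [card_inn hG]) hS) ?_ (map_inv_mem hinv) ?_ ?_ ⟨a, ha, rfl⟩ ⟨b, hb', rfl⟩ ?_ ?_
    (x := MulAut.conj x⁻¹) ⟨x⁻¹, rfl⟩ ?_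
  · rintro _ ⟨n, hn, rfl⟩
    exact hNS n hn
  · rintro _ ⟨n, hn, rfl⟩ _ ⟨n', hn', rfl⟩
    rw [← map_mul, ← map_mul, hNc n hn n' hn']
  · rintro _ ⟨n, hn, rfl⟩ h
    rw [← map_mul, ← map_one (MulAut.conj : G →* MulAut G)] at h
    rw [hodd n hn (conj_injective hG h), map_one]
  · intro k k' e1 e2 e3 e4
    exact h2 k k' ((comm_iff hG _ _).1 e1) ((comm_iff hG _ _).1 e2) ((comm_iff hG _ _).1 e3) ((comm_iff hG _ _).1 e4)
  · intro β hβ h
    rw [card_inn hG]
    exact hbig β hβ fun n hn => (comm_iff hG _ _).1 (h _ ⟨n, hn, rfl⟩)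
  · rintro _ ⟨n, hn, rfl⟩ h
    rw [← map_inv, ← map_mul, ← map_mul, inv_inv] at h
    rw [hx n hn (hkey _ h ⟨n, hn, by rw [← MulAut.conj_apply, MulEquiv.orderOf_eq]⟩), map_one]

end aut

variable {F : Type u} [Field F] [CharP F 2] [Finite F]

theorem noncomm_sp (hq : 4 ≤ Nat.card F) : ¬ IsMulCommutative (Sp4 F) := fun h => by
  have := simple_sp hq
  exact not_solvable_sp hq (IsSimpleGroup.comm_iff_isSolvable.1 h.is_comm.comm)

theorem card_sp : Nat.card (Sp4 F) = Nat.card F ^ 4 * ((Nat.card F ^ 2 - 1) * (Nat.card F ^ 4 - 1)) := by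
  have := Fintype.ofFinite F
  rw [LieClassical.SympCount.card_symplecticGroup, Nat.card_eq_fintype_card]
  simp [Finset.prod_range_succ]

theorem le_card_sp (hq : 4 ≤ Nat.card F) : Nat.card F ^ 4 * 3825 ≤ Nat.card (Sp4 F) := by
  rw [card_sp]
  have h1 : 4 ^ 2 ≤ Nat.card F ^ 2 := Nat.pow_le_pow_left hq 2
  have h2 : 4 ^ 4 ≤ Nat.card F ^ 4 := Nat.pow_le_pow_left hq 4
  exact Nat.mul_le_mul_left _ (Nat.mul_le_mul (by omega : 15 ≤ _) (by omega : 255 ≤ _))

theorem big_sp (hq : 4 ≤ Nat.card F) : 979200 ≤ Nat.card (Sp4 F) := by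
  have h1 := le_card_sp hq
  have h2 : 4 ^ 4 ≤ Nat.card F ^ 4 := Nat.pow_le_pow_left hq 4
  omega

theorem c1_of_graph (hq : 4 ≤ Nat.card F) {α : MulAut (Sp4 F)} (hα : α ∉ (conjHom 2 F).range) :
    ∃ φ : F ≃+* F, ∀ y : Sp4 F, c1 (α y) = φ (c2 y) := by
  obtain ⟨k, hk⟩ := exists_graph hq hα
  obtain ⟨φ, c, hc, hg⟩ := k.2
  refine ⟨φ, fun y => ?_⟩
  rw [hk, c1]
  exact trace_conjHom hg (graphEquiv F y)

/-- `S` normalizes the centralizer of a regular element -/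
theorem seven_reg (hq : 4 ≤ Nat.card F) {S : Subgroup (MulAut (Sp4 F))} (hS : Group.IsSolvable S)
    (hm : MaxInv (InnG (Sp4 F)) S) {v : Sp4 F} (hv : Reg v)
    (hN : ∀ α ∈ S, ∀ n : Sp4 F, n * v = v * n → α n * v = v * α n) : Seven (InnG (Sp4 F)) S := by
  have hsimple := simple_sp (F := F) hq
  have hG := noncomm_sp (F := F) hq
  have hT := as_inn hG
  obtain ⟨l, hl, hl'⟩ := exists_lam hq (k₁ := (v : Matrix I4 I4 F).trace)
    (k₂ := (graphHom F v : Matrix I4 I4 F).trace) hv.c1 hv.c2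
  obtain ⟨v₂, hv2, hrel⟩ := exists_v2 hl
  have hNm : ∀ n : Sp4 F, n ∈ Subgroup.centralizer {v} ↔ n * v = v * n := fun n =>
    Subgroup.mem_centralizer_singleton_iff
  have hNc : ∀ a ∈ Subgroup.centralizer {v}, ∀ b ∈ Subgroup.centralizer {v}, a * b = b * a := by
    intro a ha b hb
    rw [hNm] at ha hb
    exact Subtype.ext (comm_of_comm hv (congrArg Subtype.val ha) (congrArg Subtype.val hb))
  have hinv : ∀ α ∈ S, ∀ n ∈ Subgroup.centralizer {v}, α n ∈ Subgroup.centralizer {v} :=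
    fun α hα n hn => (hNm _).2 (hN α hα n ((hNm _).1 hn))
  have hNS : (Subgroup.centralizer {v}).map (MulAut.conj : Sp4 F →* MulAut (Sp4 F)) ≤ S := by
    refine hm.le_of_inv hT (Subgroup.map_le_range _ _) (fun h => hG ⟨⟨fun a b => ?_⟩⟩) (map_inv_mem hinv)
    have key : ∀ a : Sp4 F, a ∈ Subgroup.centralizer {v} := fun a => by
      rw [← Subgroup.mem_map_iff_mem (conj_injective hG), h]
      exact ⟨a, rfl⟩
    exact hNc a (key a) b (key b)
  have hP : ∀ k : MulAut (Sp4 F), k ∈ (conjHom 2 F).range → k v = v → k v₂ = v₂ →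
      k ∈ (Subgroup.centralizer {v}).map (MulAut.conj : Sp4 F →* MulAut (Sp4 F)) := by
    rintro _ ⟨g, rfl⟩ f1 f2
    obtain ⟨φ, k, hk, hg⟩ := g.2
    have h1 := trace_conjHom hg v
    rw [f1] at h1
    have hφ := hl' φ (lin_of_fix hv hrel hg f1 f2) h1.symm
    obtain ⟨A, hA, -⟩ := exists_conj_of_linear hk hg hφ
    rw [hA] at f1 ⊢
    rw [MulAut.conj_apply, mul_inv_eq_iff_eq_mul] at f1
    exact ⟨A, (hNm _).2 f1, rfl⟩
  refine seven_aut (N := Subgroup.centralizer {v}) hG (by have := big_sp hq; omega) hS hm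
    (fun n hn => hNS ⟨n, hn, rfl⟩) hinv hNc (fun n hn h => eq_one_of_sq hv ((hNm _).1 hn) h) ((hNm _).2 rfl)
    ((hNm _).2 hv2) ?_ ?_ ?_
  · intro k k' e1 e2 e3 e4
    by_cases h1 : k ∈ (conjHom 2 F).range
    · exact Or.inl (hP k h1 e1 e2)
    by_cases h2 : k' ∈ (conjHom 2 F).range
    · exact Or.inr (Or.inl (hP k' h2 e3 e4))
    refine Or.inr (Or.inr (hP _ ?_ ?_ ?_))
    · rw [Subgroup.mul_mem_iff_of_index_two (index_P hq)]
      exact ⟨fun h => absurd h h1, fun h => absurd h h2⟩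
    · rw [MulAut.mul_apply, e3, e1]
    · rw [MulAut.mul_apply, e4, e2]
  · intro β hβ h
    have h1 : β ∉ (conjHom 2 F).range := fun h2 => hβ (hP β h2 (h _ ((hNm _).2 rfl)) (h _ ((hNm _).2 hv2)))
    obtain ⟨φ, hφ⟩ := c1_of_graph hq h1
    have h2 := card_le_of_graph hv (φ := φ) fun y hy => by rw [← hφ, h y ((hNm _).2 hy)]
    have h3 := card_aut_le hG hinv ![v] (fun i => by fin_cases i; exact (hNm _).2 rfl) fun t ht => (hNm _).2 (ht 0)
    have h4 := le_card_sp hq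
    have h5 : Nat.card ↥(S ⊓ InnG (Sp4 F)) ≤ 16 * Nat.card F ^ 2 :=
      h3.trans ((Nat.pow_le_pow_left h2 _).trans (le_of_eq (by ring)))
    have h6 : 4 ^ 2 ≤ Nat.card F ^ 2 := Nat.pow_le_pow_left hq 2
    have h7 : Nat.card F ^ 4 = Nat.card F ^ 2 * Nat.card F ^ 2 := by ring
    rw [h7] at h4
    generalize Nat.card F ^ 2 = Q at *
    generalize Nat.card ↥(S ⊓ InnG (Sp4 F)) = m at *
    have h8 := Nat.mul_le_mul h5 h5
    nlinarith
  · rintro y hy ⟨n, hn, e⟩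
    have h1 := hN _ hy v rfl
    rw [MulAut.conj_apply] at h1
    exact (hNm _).2 (comm_of_conj hv (e ▸ odd_of_comm hv ((hNm _).1 hn)) h1)

theorem exc_cube {a b : Sp4 F} (h : Exc a b) : a ^ 3 = 1 := by
  have h1 : st (a : Matrix I4 I4 F) = a * a := by
    have h2 := congrArg (fun M : Matrix I4 I4 F => (a : Matrix I4 I4 F) * M) h.Wa
    simp only [W, mul_add, mul_st, mul_one] at h2
    have h3 : (a : Matrix I4 I4 F) + st (a : Matrix I4 I4 F) = 1 := h.Wa
    have h4 : (a : Matrix I4 I4 F) * a + 1 + st (a : Matrix I4 I4 F) = 1 := by rw [h2, h3]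
    rw [add_right_comm, add_eq_right] at h4
    exact (CharTwo.add_eq_zero.1 h4).symm
  apply Subtype.ext
  have h2 := mul_st a
  rw [h1] at h2
  rw [pow_three]
  exact h2

/-- the exceptional configuration over the field with four elements -/
theorem seven_exc (hq : 4 ≤ Nat.card F) {t : F} (ht0 : t ≠ 0) (ht1 : t ≠ 1)
    (hF : ∀ x : F, x = 0 ∨ x = 1 ∨ x = t ∨ x = t + 1) (h4 : ∀ x : F, x = 0 ∨ x ^ 3 = 1)
    {S : Subgroup (MulAut (Sp4 F))} (hS : Group.IsSolvable S)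
    (hm : MaxInv (InnG (Sp4 F)) S) {A : Subgroup (Sp4 F)} (hAS : ∀ a ∈ A, MulAut.conj a ∈ S)
    (hcomm : ∀ a ∈ A, ∀ b ∈ A, a * b = b * a) {r : ℕ} (hr : r.Prime) (hexp : ∀ a ∈ A, a ^ r = 1)
    (hinv : ∀ α ∈ S, ∀ a ∈ A, α a ∈ A) {a b : Sp4 F} (ha : a ∈ A) (hb : b ∈ A) (hE : Exc a b) :
    Seven (InnG (Sp4 F)) S := by
  classical
  have hsimple := simple_sp (F := F) hq
  have hG := noncomm_sp (F := F) hq
  have hq4 : Nat.card F = 4 := by
    have := Fintype.ofFinite F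
    have h1 : (Finset.univ : Finset F) ⊆ {0, 1, t, t + 1} := fun x _ => by simpa using hF x
    have h2 := (Finset.card_le_card h1).trans Finset.card_le_four
    rw [Finset.card_univ, ← Nat.card_eq_fintype_card] at h2
    omega
  have hcard : Nat.card (Sp4 F) = 979200 := by rw [card_sp, hq4]; norm_num
  have hc1a : c1 a = 0 := trace_eq_zero (c := 1) (by rw [hE.Wa, one_smul])
  have hc2a : c2 a = 1 := by
    have h1 := W_sq'' a
    rw [hE.Wa, hc1a, zero_smul, zero_add, mul_one] at h1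
    have h2 := congrFun (congrFun h1 (.inl 0)) (.inl 0)
    simpa using h2.symm
  have hW : ∀ y : Sp4 F, y * y = 1 → W (y : Matrix I4 I4 F) = 0 := by
    intro y hy
    rw [W, ← coe_inv, inv_eq_of_mul_eq_one_left hy]
    exact CharTwo.add_self_eq_zero _
  have haa : a * a ≠ 1 := fun h => one_ne_zero (hE.Wa.symm.trans (hW a h))
  have ha1 : a ≠ 1 := fun h => haa (by rw [h, mul_one])
  have _ : Fact (Nat.Prime 3) := ⟨Nat.prime_three⟩
  have hr3 : r = 3 := by
    have h1 := orderOf_dvd_of_pow_eq_one (hexp a ha)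
    rw [orderOf_eq_prime (exc_cube hE) ha1] at h1
    exact ((Nat.prime_dvd_prime_iff_eq Nat.prime_three hr).1 h1).symm
  subst hr3
  have hp : IsPGroup 3 A := fun x => ⟨1, Subtype.ext (by rw [pow_one]; exact hexp x x.2)⟩
  have hle : A ≤ Subgroup.centralizer {a, b} := by
    intro x hx
    rw [Subgroup.mem_centralizer_iff]
    rintro y (rfl | rfl)
    exacts [hcomm _ ha x hx, hcomm _ hb x hx]
  have h9 := card_exc h4 hE
  have hA9 : 9 ≤ Nat.card A := by
    have htr1 : c1 (1 : Sp4 F) = 0 := trace_eq_zero (c := 0) (by rw [hW 1 (mul_one _), zero_smul])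
    have htr2 : c1 (a * a) = 0 := by rw [c1_sq, hc1a, mul_zero]
    have hbn : ∀ y : Sp4 F, c1 y = 0 → b ≠ y := fun y hy h => one_ne_zero (hE.tb.symm.trans (h ▸ hy))
    have h1 : ({b, 1, a, a * a} : Set (Sp4 F)).ncard = 4 := by
      rw [Set.ncard_insert_of_notMem, Set.ncard_insert_of_notMem, Set.ncard_pair]
      · intro h
        exact ha1 (by simpa using h)
      · rintro (h | h)
        exacts [ha1 h.symm, haa h.symm]
      · rintro (h | h | h)
        exacts [hbn _ htr1 h, hbn _ hc1a h, hbn _ htr2 h]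
    have h2 : ({b, 1, a, a * a} : Set (Sp4 F)) ⊆ (A : Set (Sp4 F)) := by
      rintro y (rfl | rfl | rfl | rfl)
      exacts [hb, one_mem _, ha, mul_mem ha ha]
    have h3 := Set.ncard_le_ncard h2
    rw [h1, ← Nat.card_coe_set_eq] at h3
    obtain ⟨k, hk⟩ := IsPGroup.iff_card.1 hp
    have h5 : 4 ≤ Nat.card A := h3
    rw [hk] at h5 ⊢
    have h6 : 2 ≤ k := by
      by_contra h7
      have := Nat.pow_le_pow_right (by norm_num : 0 < 3) (by omega : k ≤ 1)
      omega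
    exact Nat.pow_le_pow_right (by norm_num : 0 < 3) h6
  have hAC : A = Subgroup.centralizer {a, b} := Subgroup.eq_of_le_of_card_ge hle (h9.trans hA9)
  have hC : ∀ x : Sp4 F, x * a = a * x → x * b = b * x → x ∈ A := by
    intro x h1 h2
    rw [hAC, Subgroup.mem_centralizer_iff]
    rintro y (rfl | rfl)
    exacts [h1.symm, h2.symm]
  have hinn : ∀ (k : MulAut (Sp4 F)) (h : Sp4 F), (∀ y, k y = h * y * h⁻¹) → k a = a → k b = b →
      k ∈ A.map (MulAut.conj : Sp4 F →* MulAut (Sp4 F)) := by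
    intro k h hk e1 e2
    rw [hk, mul_inv_eq_iff_eq_mul] at e1 e2
    exact ⟨h, hC h e1 e2, MulEquiv.ext fun y => (hk y).symm⟩
  have hdec : ∀ k : MulAut (Sp4 F), k a = a → ∃ (h : Sp4 F) (φ : F ≃+* F), ∀ y, k y = h * H545.FC.mapS φ y * h⁻¹ := by
    intro k e
    by_cases h1 : k ∈ (conjHom 2 F).range
    · obtain ⟨g, rfl⟩ := h1
      exact H545.FC.exists_dec g
    · exfalso
      obtain ⟨φ, hφ⟩ := c1_of_graph hq h1
      have h2 := hφ a
      rw [e, hc1a, hc2a, map_one] at h2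
      exact zero_ne_one h2
  have hid : ∀ φ : F ≃+* F, φ t = t → ∀ x, φ x = x := by
    intro φ h x
    rcases hF x with rfl | rfl | rfl | rfl
    · exact map_zero φ
    · exact map_one φ
    · exact h
    · rw [map_add, map_one, h]
  have hφt : ∀ φ : F ≃+* F, φ t = t ∨ φ t = t + 1 := by
    intro φ
    rcases hF (φ t) with h | h | h | h
    · exact absurd (φ.injective (h.trans (map_zero φ).symm)) ht0
    · exact absurd (φ.injective (h.trans (map_one φ).symm)) ht1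
    · exact Or.inl h
    · exact Or.inr h
  have hmap : ∀ φ : F ≃+* F, φ t = t → ∀ y : Sp4 F, H545.FC.mapS φ y = y := fun φ h y =>
    Subtype.ext (Matrix.ext fun i j => by rw [H545.FC.mapS_apply, hid φ h])
  refine seven_aut (N := A) hG (by omega) hS hm hAS hinv hcomm (fun n hn h => ?_) ha hb ?_ ?_ ?_
  · have h1 := hexp n hn
    rwa [pow_three, h, mul_one] at h1
  · intro k k' e1 e2 e3 e4
    obtain ⟨h, φ, hk⟩ := hdec k e1
    obtain ⟨h', φ', hk'⟩ := hdec k' e3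
    rcases hφt φ with h1 | h1
    · exact Or.inl (hinn k h (fun y => by rw [hk, hmap φ h1]) e1 e2)
    rcases hφt φ' with h2 | h2
    · exact Or.inr (Or.inl (hinn k' h' (fun y => by rw [hk', hmap φ' h2]) e3 e4))
    refine Or.inr (Or.inr (hinn _ (h * H545.FC.mapS φ h') (fun y => ?_) ?_ ?_))
    · have h3 : H545.FC.mapS φ (H545.FC.mapS φ' y) = y := by
        refine Subtype.ext (Matrix.ext fun i j => ?_)
        rw [H545.FC.mapS_apply, H545.FC.mapS_apply]
        refine hid (φ'.trans φ) ?_ _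
        rw [RingEquiv.trans_apply, h2, map_add, map_one, h1, add_assoc, CharTwo.add_self_eq_zero, add_zero]
      rw [MulAut.mul_apply, hk, hk', map_mul, map_mul, map_inv, h3]
      group
    · rw [MulAut.mul_apply, e3, e1]
    · rw [MulAut.mul_apply, e4, e2]
  · intro _ _ _
    have h3 := card_aut_le hG hinv ![a, b] (fun i => by fin_cases i; exacts [ha, hb]) fun x hx => hC x (hx 0) (hx 1)
    rw [← hAC] at h9
    have h5 : Nat.card ↥(S ⊓ InnG (Sp4 F)) ≤ 729 := h3.trans (Nat.pow_le_pow_left h9 _)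
    have h8 := Nat.mul_le_mul h5 h5
    omega
  · rintro y hy ⟨n, hn, e⟩
    have hy3 : y ^ 3 = 1 := by
      rw [← orderOf_dvd_iff_pow_eq_one, e, orderOf_dvd_iff_pow_eq_one]
      exact hexp n hn
    have h1 : IsPGroup 3 (Subgroup.zpowers y) := by
      rintro ⟨_, k, rfl⟩
      refine ⟨1, Subtype.ext ?_⟩
      show (y ^ k) ^ (3 ^ 1) = 1
      rw [pow_one, ← zpow_natCast, ← zpow_mul, mul_comm, zpow_mul, zpow_natCast, hy3, one_zpow]
    have h2 : Subgroup.zpowers y ≤ Subgroup.normalizer (A : Set (Sp4 F)) := by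
      rw [Subgroup.zpowers_le]
      exact Subgroup.mem_normalizer_fintype (S := (A : Set (Sp4 F))) fun x hx => hinv _ hy x hx
    have h3 := IsPGroup.to_sup_of_normal_right' h1 hp h2
    obtain ⟨k, hk⟩ := IsPGroup.iff_card.1 h3
    have h5 := Subgroup.card_subgroup_dvd_card (Subgroup.zpowers y ⊔ A)
    rw [hk, hcard] at h5
    have h6 : k ≤ 2 := by
      by_contra h7
      have h8 := (pow_dvd_pow 3 (by omega : 3 ≤ k)).trans h5
      norm_num at h8
    have h7 : A = Subgroup.zpowers y ⊔ A := Subgroup.eq_of_le_of_card_ge le_sup_right (by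
      rw [hk]
      exact (Nat.pow_le_pow_right (by norm_num : 0 < 3) h6).trans hA9)
    rw [h7]
    exact Subgroup.mem_sup_left (Subgroup.mem_zpowers y)

/-- the statement for `Sp₄(F)` -/
theorem seven_sp (hq : 4 ≤ Nat.card F) {S : Subgroup (MulAut (Sp4 F))} (hS : Group.IsSolvable S)
    (hm : MaxInv (InnG (Sp4 F)) S) (hn : NPar 2 (InnG (Sp4 F)) S) (hP : ¬ S ≤ (conjHom 2 F).range) :
    Seven (InnG (Sp4 F)) S := by
  have hsimple := simple_sp (F := F) hq
  have hG := noncomm_sp (F := F) hq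
  have hT := as_inn hG
  obtain ⟨r, A, hr, hA, hAS, hcomm, hexp, hinv⟩ := exists_elab hS center_sp (by
    obtain ⟨⟨_, h1, x, rfl⟩, h2⟩ := Subgroup.ne_bot_iff_exists_ne_one.1 (hm.inf_ne_bot hT hS)
    exact ⟨x, h1, fun h => h2 (Subtype.ext (by show MulAut.conj x = 1; rw [h, map_one]))⟩)
  have hr2 : r ≠ 2 := by
    rintro rfl
    have h1 : IsPGroup 2 A := fun x => ⟨1, Subtype.ext (by rw [pow_one]; exact hexp x x.2)⟩
    have h2 := hn (A.map MulAut.conj) (by rintro _ ⟨a, ha, rfl⟩; exact ⟨hAS a ha, a, rfl⟩) (h1.map _) (map_inv_mem hinv)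
    exact hA ((Subgroup.map_eq_bot_iff_of_injective _ (conj_injective hG)).1 h2)
  have hodd : ∀ a ∈ A, Odd (orderOf a) := fun a ha =>
    (hr.odd_of_ne_two hr2).of_dvd_nat (orderOf_dvd_of_pow_eq_one (hexp a ha))
  have hreg : ∀ v : Sp4 F, Reg v → (∀ a ∈ A, a * v = v * a) → (∀ n : Sp4 F, (∀ a ∈ A, n * a = a * n) → n * v = v * n) →
      Seven (InnG (Sp4 F)) S := by
    intro v hv hv1 hv2
    refine seven_reg hq hS hm hv fun α hα n hn => hv2 _ fun a ha => ?_
    have h4 : α⁻¹ a ∈ A := hinv _ (inv_mem hα) a ha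
    have h5 : n * α⁻¹ a = α⁻¹ a * n := by
      apply Subtype.ext
      exact comm_of_comm hv (congrArg Subtype.val hn) (congrArg Subtype.val (hv1 _ h4))
    have h6 := congrArg α h5
    rw [map_mul, map_mul] at h6
    have h7 : α (α⁻¹ a) = a := α.apply_symm_apply a
    rwa [h7] at h6
  by_cases hex : ∃ a ∈ A, c1 a * c2 a ≠ 0
  · obtain ⟨a, ha, h1⟩ := hex
    exact hreg a ⟨left_ne_zero_of_mul h1, right_ne_zero_of_mul h1⟩ (fun b hb => hcomm b hb a ha) fun n hn => hn a ha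
  push Not at hex
  obtain ⟨a₀, ha₀, ha₀1⟩ : ∃ a ∈ A, a ≠ 1 := by
    obtain ⟨a, h⟩ := Subgroup.ne_bot_iff_exists_ne_one.1 hA
    exact ⟨a.1, a.2, fun h' => h (Subtype.ext h')⟩
  obtain ⟨α, hαS, hαP⟩ := Set.not_subset.1 hP
  have hgr : ∀ y : Sp4 F, c1 (α y) = 0 ↔ c2 y = 0 := by
    intro y
    obtain ⟨φ, hφ⟩ := c1_of_graph hq hαP
    rw [hφ, map_eq_zero]
  obtain ⟨a, b, ha, hb, ha1, hb1, h1a, h2b⟩ : ∃ a b : Sp4 F, a ∈ A ∧ b ∈ A ∧ a ≠ 1 ∧ b ≠ 1 ∧ c1 a = 0 ∧ c2 b = 0 := by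
    rcases mul_eq_zero.1 (hex a₀ ha₀) with h4 | h4
    · refine ⟨a₀, α⁻¹ a₀, ha₀, hinv _ (inv_mem hαS) _ ha₀, ha₀1, ?_, h4, ?_⟩
      · rwa [Ne, map_eq_one_iff _ (MulEquiv.injective _)]
      · rw [← hgr]
        have : α (α⁻¹ a₀) = a₀ := α.apply_symm_apply a₀
        rwa [this]
    · refine ⟨α a₀, a₀, hinv _ hαS _ ha₀, ha₀, ?_, ha₀1, ?_, h4⟩
      · rwa [Ne, map_eq_one_iff _ (MulEquiv.injective _)]
      · rwa [hgr]
  have hE := exc_of (hcomm a ha b hb) (hodd a ha) (hodd b hb) (hodd _ (mul_mem ha hb)) (hodd _ (mul_mem ha (inv_mem hb)))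
    ha1 hb1 h1a h2b (hex _ (mul_mem ha hb)) (hex _ (mul_mem ha (inv_mem hb)))
  by_cases hl : ∃ l : F, l ≠ 0 ∧ l ≠ 1 ∧ 1 + l + l ^ 2 ≠ 0
  · obtain ⟨l, hl0, hl1, hl2⟩ := hl
    obtain ⟨v, hv, hX⟩ := exists_reg hE hl0 hl1 hl2
    refine hreg v hv (fun c hc => ?_) fun n hn => ?_
    · exact Subtype.ext (hX _ (congrArg Subtype.val (hcomm c hc a ha)) (congrArg Subtype.val (hcomm c hc b hb)))
    · exact Subtype.ext (hX _ (congrArg Subtype.val (hn a ha)) (congrArg Subtype.val (hn b hb)))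
  push Not at hl
  obtain ⟨t, ht0, ht1⟩ := exists_t (F := F) hq
  have h2 : (2 : F) = 0 := CharTwo.two_eq_zero
  refine seven_exc hq ht0 ht1 (fun x => ?_) (fun x => ?_) hS hm hAS hcomm hr hexp hinv ha hb hE
  · by_cases h0 : x = 0
    · exact Or.inl h0
    by_cases h1 : x = 1
    · exact Or.inr (Or.inl h1)
    have h3 : (x - t) * (x - (t + 1)) = 0 := by
      linear_combination hl x h0 h1 + hl t ht0 ht1 - (x * t + x + 1) * h2
    rcases mul_eq_zero.1 h3 with h4 | h4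
    · exact Or.inr (Or.inr (Or.inl (sub_eq_zero.1 h4)))
    · exact Or.inr (Or.inr (Or.inr (sub_eq_zero.1 h4)))
  · by_cases h0 : x = 0
    · exact Or.inl h0
    right
    by_cases h1 : x = 1
    · rw [h1, one_pow]
    · linear_combination (x - 1) * hl x h0 h1

/-- **`Sp₄(2^a)` with graph automorphisms.** -/
theorem boxB2 : Cl.BoxB2 := by
  intro F _ _ _ hq S hS hm hn hP
  have hq' : 4 ≤ Nat.card F := by rwa [Nat.card_eq_fintype_card]
  have hmap : (S.comap (congE F).toMonoidHom).map (congE F).toMonoidHom = S :=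
    Subgroup.map_comap_eq_self_of_surjective (congE F).surjective S
  have hinn : (InnG (Sp4 F)).map (congE F).toMonoidHom = InnG (PSp 2 F) := congr_innG (mkE F)
  have hS' : Group.IsSolvable (S.comap (congE F).toMonoidHom) :=
    Group.isSolvable_of_isSolvable_injective (f := (congE F).toMonoidHom.subgroupComap S) fun x y h =>
      Subtype.ext ((congE F).injective (congrArg Subtype.val h))
  have h1 := seven_sp hq' hS' (MaxInv.of_map _ (congE F).injective (by rwa [hinn, hmap]))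
    (NPar.of_map _ (congE F).injective (by rwa [hinn, hmap])) (fun h => hP (by
      rw [← hmap]
      rintro _ ⟨α, hα, rfl⟩
      exact (congE_mem_range α).2 (h hα)))
  have h2 := Seven.map (congE F).toMonoidHom (congE F).injective h1
  rw [hinn, hmap] at h2
  exact Or.inr h2

end Cfsg.Agent.SB.B2
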