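import Cfsg.Agent.SB.Mono

/-!
# S5765, `Sp₄(2^a)` with graph automorphisms: abstract lemmas (helper52)

* `seven_of_triple` : the trick with one regular triple on an abelian normal subgroup;
* `seven_of_pair` : two elements of `N` whose common centralizer contains `N` with index at most two;
* `card_inf_le_pow` : a bound for `|S ∩ T|`.
-/

set_option autoImplicit false

namespace Cfsg.Agent.SB.B2

open Subgroup Cfsg Cfsg.Agent.H786.FC

universe u

/-- greedy choice of independent elements -/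
theorem greedy {Ω : Type*} [Finite Ω] (B : Set Ω) (R : Ω → Ω → Prop) (hs : ∀ x y, R x y → R y x) (d : ℕ)
    (hd : ∀ x, {y | R x y}.ncard ≤ d) (n : ℕ) (h : B.ncard + n * d < Nat.card Ω) :
    ∃ f : Fin n → Ω, (∀ c, f c ∉ B) ∧ ∀ c c', R (f c) (f c') → c = c' := by
  classical
  induction n with
  | zero => exact ⟨Fin.elim0, fun c => c.elim0, fun c => c.elim0⟩
  | succ n ih =>
    obtain ⟨f, hf, hR⟩ := ih (by nlinarith)
    have h1 : (B ∪ ⋃ c : Fin n, {y | R (f c) y}).ncard < Nat.card Ω := by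
      refine lt_of_le_of_lt (Set.ncard_union_le _ _) (lt_of_le_of_lt (Nat.add_le_add_left ?_ _) (by nlinarith : B.ncard + n * d < _))
      refine (Set.ncard_iUnion_le_of_fintype _).trans ?_
      calc ∑ c : Fin n, {y | R (f c) y}.ncard ≤ ∑ _c : Fin n, d := Finset.sum_le_sum fun c _ => hd _
        _ = n * d := by simp
    obtain ⟨y, hy⟩ : ∃ y, y ∉ (B ∪ ⋃ c : Fin n, {y | R (f c) y}) := by
      by_contra hcon
      push Not at hcon
      rw [Set.eq_univ_of_forall hcon, Set.ncard_univ] at h1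
      exact lt_irrefl _ h1
    simp only [Set.mem_union, Set.mem_iUnion, Set.mem_ofPred_eq, not_or, not_exists] at hy
    refine ⟨Fin.cons y f, fun c => ?_, fun c c' => ?_⟩
    · refine Fin.cases ?_ (fun c => ?_) c
      · exact hy.1
      · exact hf c
    · refine Fin.cases ?_ (fun c => ?_) c <;> refine Fin.cases ?_ (fun c' => ?_) c'
      · exact fun _ => rfl
      · exact fun h2 => absurd (hs _ _ h2) (hy.2 c')
      · exact fun h2 => absurd h2 (hy.2 c)
      · exact fun h2 => congrArg Fin.succ (hR c c' h2)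

variable {A : Type u} [Group A] [Finite A] {T S N : Subgroup A}

/-- **The trick**, one regular triple on an abelian normal subgroup. -/
theorem seven_of_triple (hT : T.Normal) (hS : Group.IsSolvable S) (h7 : 7 ≤ S.relIndex T) (hNS : N ≤ S)
    (hNn : ∀ s ∈ S, ∀ v ∈ N, s * v * s⁻¹ ∈ N) (hNc : ∀ a ∈ N, ∀ b ∈ N, a * b = b * a) {x : A} (hx : x ∈ T)
    (hxN : ∀ v ∈ N, x⁻¹ * v * x ∈ S → v = 1) {v₁ v₂ v₃ : A} (h1 : v₁ ∈ N) (h2 : v₂ ∈ N) (h3 : v₃ ∈ N)
    (hb : ∀ k ∈ S, x⁻¹ * k * x ∈ S → k * v₁ = v₁ * k → k * v₂ = v₂ * k → k * v₃ = v₃ * k → k = 1) : Seven T S := by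
  let _ : CommGroup N :=
    { (inferInstance : Group _) with
      mul_comm := fun a b => Subtype.ext (hNc a a.2 b b.2) }
  let D : Subgroup A := S ⊓ S.comap (MulAut.conj x⁻¹).toMonoidHom
  have hD : ∀ k, k ∈ D ↔ k ∈ S ∧ x⁻¹ * k * x ∈ S := fun k => by simp [D]
  have hDs : Group.IsSolvable D :=
    Group.isSolvable_of_isSolvable_injective (f := inclusion (inf_le_left : D ≤ S)) (inclusion_injective _)
  let _ : DistribMulAction D (Additive N) :=
    { smul := fun d a => Additive.ofMul ⟨(d : A) * (a.toMul : N) * (d : A)⁻¹, hNn _ ((hD _).1 d.2).1 _ a.toMul.2⟩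
      one_smul := fun a => Subtype.ext (by
        show ((1 : D) : A) * (a.toMul : N) * ((1 : D) : A)⁻¹ = (a.toMul : N); simp)
      mul_smul := fun d e a => Subtype.ext (by
        show ((d * e : D) : A) * (a.toMul : N) * ((d * e : D) : A)⁻¹ =
          (d : A) * ((e : A) * (a.toMul : N) * (e : A)⁻¹) * (d : A)⁻¹
        simp [mul_assoc])
      smul_zero := fun d => Subtype.ext (by show (d : A) * 1 * (d : A)⁻¹ = 1; simp)
      smul_add := fun d a b => Subtype.ext (by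
        show (d : A) * (((a.toMul : N) : A) * (b.toMul : N)) * (d : A)⁻¹ =
          (d : A) * (a.toMul : N) * (d : A)⁻¹ * ((d : A) * (b.toMul : N) * (d : A)⁻¹)
        group) }
  have hsm : ∀ (d : D) (a b : Additive N), d • a = b ↔ (d : A) * (a.toMul : N) * (d : A)⁻¹ = (b.toMul : N) :=
    fun d a b => ⟨fun h => congrArg (fun z : Additive N => ((z.toMul : N) : A)) h, fun h => Subtype.ext h⟩
  let v : Fin 3 → Additive N := ![Additive.ofMul ⟨v₁, h1⟩, Additive.ofMul ⟨v₂, h2⟩, Additive.ofMul ⟨v₃, h3⟩]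
  have hv : ∀ d : D, d • v = v → d = 1 := by
    intro d hd
    have a : ∀ i, (d : A) * ((v i).toMul : N) = ((v i).toMul : N) * d := fun i =>
      mul_inv_eq_iff_eq_mul.1 ((hsm _ _ _).1 (congrFun hd i))
    exact Subtype.ext (hb d ((hD _).1 d.2).1 ((hD _).1 d.2).2 (a 0) (a 1) (a 2))
  rcases pair_or_seven hDs v hv with ⟨y, z, hyz⟩ | ⟨w, hw⟩
  · refine seven_of_four (four_of_trick hT hNS hNn hx hxN y.toMul.2 z.toMul.2 fun k hk hkx a b => ?_) h7
    exact congrArg Subtype.val (hyz ⟨k, (hD k).2 ⟨hk, hkx⟩⟩ ((hsm _ _ _).2 a) ((hsm _ _ _).2 b))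
  · refine seven_of_trick hT hNS hNn hx hxN (fun c i => ((w c i).toMul : N))
      (fun c i => (w c i).toMul.2) fun k hk hkx c c' hi => ?_
    have h4 := hw ⟨k, (hD k).2 ⟨hk, hkx⟩⟩ c c' (funext fun i => (hsm _ _ _).2 (hi i))
    exact ⟨h4.1, congrArg Subtype.val h4.2⟩

/-- a bound for the number of `x ∈ T` conjugating `β ∈ S` into `S` -/
theorem hits_le_sq (hT : T.Normal) {β : A} (hβ : β ∈ S) (hC : ∀ t ∈ T, t * β = β * t → t ∈ S) :
    hits T S β ≤ Nat.card ↥(S ⊓ T) * Nat.card ↥(S ⊓ T) := by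
  rw [hits_eq]
  refine Nat.mul_le_mul (card_le_of_le fun t ht => mem_inf.2 ⟨hC t (mem_inf.1 ht).1 ?_, (mem_inf.1 ht).1⟩) ?_
  · exact mem_centralizer_singleton_iff.1 (mem_inf.1 ht).2
  · refine Nat.card_le_card_of_injective
      (fun y : {y : S // ∃ x ∈ T, x⁻¹ * β * x = y} => (⟨(y.1 : A) * β⁻¹, mem_inf.2 ⟨mul_mem y.1.2 (inv_mem hβ), ?_⟩⟩ : ↥(S ⊓ T))) ?_
    · obtain ⟨x, hx, hy⟩ := y.2
      rw [← hy]
      have h1 := mul_mem (inv_mem hx) (hT.conj_mem x hx β)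
      simpa only [mul_assoc] using h1
    · intro y y' h
      have h1 : (y.1 : A) * β⁻¹ = (y'.1 : A) * β⁻¹ := congrArg Subtype.val h
      exact Subtype.ext (Subtype.ext (mul_right_cancel h1))

theorem ncard_coset_le (hT : T.Normal) {s : A} (hs : s ∈ S) (y : T) :
    {y' : T | (y : A)⁻¹ * s * y' ∈ S}.ncard ≤ Nat.card ↥(S ⊓ T) := by
  rw [← Nat.card_coe_set_eq]
  refine Nat.card_le_card_of_injective
    (fun z : {y' : T | (y : A)⁻¹ * s * y' ∈ S} => (⟨(y : A)⁻¹ * s * z.1 * s⁻¹, mem_inf.2 ⟨mul_mem z.2 (inv_mem hs), ?_⟩⟩ :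
      ↥(S ⊓ T))) ?_
  · have h1 := mul_mem (inv_mem y.2) (hT.conj_mem _ z.1.2 s)
    simpa only [mul_assoc] using h1
  · intro z z' h
    have h1 : (y : A)⁻¹ * s * z.1 * s⁻¹ = (y : A)⁻¹ * s * z'.1 * s⁻¹ := congrArg Subtype.val h
    exact Subtype.ext (Subtype.ext (mul_left_cancel (mul_right_cancel h1)))

/-- **Two elements** of the abelian normal subgroup `N` of odd order whose common centralizer contains `N` with index at
most two. -/
theorem seven_of_pair (hT : AS T) (hS : Group.IsSolvable S) (hm : MaxInv T S) (h7 : 7 ≤ S.relIndex T) (hNS : N ≤ S)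
    (hNn : ∀ s ∈ S, ∀ v ∈ N, s * v * s⁻¹ ∈ N) (hNc : ∀ a ∈ N, ∀ b ∈ N, a * b = b * a)
    (hodd : ∀ n ∈ N, n * n = 1 → n = 1) {a b : A} (ha : a ∈ N) (hb : b ∈ N)
    (h2 : ∀ k k' : A, k * a = a * k → k * b = b * k → k' * a = a * k' → k' * b = b * k' → k ∈ N ∨ k' ∈ N ∨ k * k' ∈ N)
    (hbig : ∀ β : A, β ∉ N → (∀ n ∈ N, β * n = n * β) →
      Nat.card ↥(S ⊓ T) * Nat.card ↥(S ⊓ T) + 14 * Nat.card ↥(S ⊓ T) < Nat.card T)
    {x : A} (hx : x ∈ T) (hxN : ∀ v ∈ N, x⁻¹ * v * x ∈ S → v = 1) : Seven T S := by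
  classical
  by_cases hex : ∀ k ∈ S, x⁻¹ * k * x ∈ S → k * a = a * k → k * b = b * k → k = 1
  · exact seven_of_triple hT.normal hS h7 hNS hNn hNc hx hxN ha hb hb fun k hk hkx h1 h3 _ => hex k hk hkx h1 h3
  push Not at hex
  obtain ⟨β, hβ, hβx, hβa, hβb, hβ1⟩ := hex
  have hβN : β ∉ N := fun h => hβ1 (hxN β h hβx)
  have hmul : ∀ k k' : A, x⁻¹ * k * x ∈ S → x⁻¹ * k' * x ∈ S → x⁻¹ * (k * k') * x ∈ S := by
    intro k k' h1 h3
    have h4 := mul_mem h1 h3
    have e : x⁻¹ * k * x * (x⁻¹ * k' * x) = x⁻¹ * (k * k') * x := by group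
    rwa [e] at h4
  have hββ : β * β = 1 := by
    rcases h2 β β hβa hβb hβa hβb with h | h | h
    · exact absurd h hβN
    · exact absurd h hβN
    · exact hxN _ h (hmul _ _ hβx hβx)
  have hE : ∀ k : A, x⁻¹ * k * x ∈ S → k * a = a * k → k * b = b * k → k = 1 ∨ k = β := by
    intro k hkx h1 h3
    rcases h2 k β h1 h3 hβa hβb with h | h | h
    · exact Or.inl (hxN _ h hkx)
    · exact absurd h hβN
    · right
      have h4 := hxN _ h (hmul _ _ hkx hβx)
      exact mul_right_cancel (h4.trans hββ.symm)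
  by_cases hz : ∃ z ∈ N, β * z ≠ z * β
  · obtain ⟨z, hz, hzβ⟩ := hz
    refine seven_of_triple hT.normal hS h7 hNS hNn hNc hx hxN ha hb hz fun k _ hkx h1 h3 h4 => ?_
    rcases hE k hkx h1 h3 with h | h
    · exact h
    · exact absurd (h ▸ h4) hzβ
  push Not at hz
  -- `S` centralizes `β`
  have hSβ : ∀ s ∈ S, s * β * s⁻¹ = β := by
    intro s hs
    have h1 : ∀ n ∈ N, s * β * s⁻¹ * n = n * (s * β * s⁻¹) := by
      intro n hn
      have h3 := hz _ (hNn s⁻¹ (inv_mem hs) n hn)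
      calc s * β * s⁻¹ * n = s * (β * (s⁻¹ * n * s⁻¹⁻¹)) * s⁻¹ := by group
        _ = n * (s * β * s⁻¹) := by rw [h3]; group
    rcases h2 (s * β * s⁻¹) β (h1 a ha) (h1 b hb) hβa hβb with h | h | h
    · exfalso
      apply hβN
      have h3 := hNn s⁻¹ (inv_mem hs) _ h
      have e : s⁻¹ * (s * β * s⁻¹) * s⁻¹⁻¹ = β := by group
      rwa [e] at h3
    · exact absurd h hβN
    · have h3 : s * β * s⁻¹ * β * (s * β * s⁻¹ * β) = 1 := by
        have h4 := hz _ h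
        calc s * β * s⁻¹ * β * (s * β * s⁻¹ * β) = s * β * s⁻¹ * (β * (s * β * s⁻¹ * β)) := by group
          _ = s * β * s⁻¹ * (s * β * s⁻¹ * β * β) := by rw [h4]
          _ = s * (β * β) * s⁻¹ * (β * β) := by group
          _ = 1 := by rw [hββ]; group
      exact mul_right_cancel ((hodd _ h h3).trans hββ.symm)
  have hC : ∀ t ∈ T, t * β = β * t → t ∈ S := by
    intro t ht htβ
    refine hm.mem_of_centralizes hT (X := zpowers β) (by rwa [Ne, zpowers_eq_bot]) (fun hle => ?_) ?_ ht ?_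
    · refine hT.nonab ⟨⟨fun p q => Subtype.ext ?_⟩⟩
      obtain ⟨i, hi⟩ := mem_zpowers_iff.1 (hle p.2)
      obtain ⟨j, hj⟩ := mem_zpowers_iff.1 (hle q.2)
      show (p : A) * q = q * p
      rw [← hi, ← hj, ← zpow_add, ← zpow_add, add_comm]
    · intro s hs y hy
      obtain ⟨i, rfl⟩ := mem_zpowers_iff.1 hy
      rw [← conj_zpow, hSβ s hs]
      exact zpow_mem_zpowers _ _
    · intro y hy
      obtain ⟨i, rfl⟩ := mem_zpowers_iff.1 hy
      exact (Commute.zpow_right htβ i).eq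
  have hB := hits_le_sq hT.normal hβ hC
  have hbig' := hbig β hβN hz
  obtain ⟨f, hf, hR⟩ := greedy {y : T | (y : A)⁻¹ * β * y ∈ S}
    (fun y y' : T => (y : A)⁻¹ * 1 * y' ∈ S ∨ (y : A)⁻¹ * β * y' ∈ S)
    (by
      rintro y y' (h | h)
      · left
        have h1 := inv_mem h
        have e : ((y : A)⁻¹ * 1 * y')⁻¹ = (y' : A)⁻¹ * 1 * y := by group
        rwa [e] at h1
      · right
        have h1 := inv_mem h
        have e : ((y : A)⁻¹ * β * y')⁻¹ = (y' : A)⁻¹ * β * y := by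
          rw [mul_inv_rev, mul_inv_rev, inv_inv, inv_eq_of_mul_eq_one_right hββ, mul_assoc]
        rwa [e] at h1)
    (2 * Nat.card ↥(S ⊓ T))
    (fun y => by
      have e : {y' : T | (y : A)⁻¹ * 1 * y' ∈ S ∨ (y : A)⁻¹ * β * y' ∈ S} =
        {y' : T | (y : A)⁻¹ * 1 * y' ∈ S} ∪ {y' : T | (y : A)⁻¹ * β * y' ∈ S} := rfl
      rw [e, two_mul]
      exact (Set.ncard_union_le _ _).trans
        (Nat.add_le_add (ncard_coset_le hT.normal (one_mem _) y) (ncard_coset_le hT.normal hβ y)))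
    7 (by
      have e : {y : T | (y : A)⁻¹ * β * y ∈ S}.ncard = hits T S β := (Nat.card_coe_set_eq _).symm
      rw [e]
      omega)
  refine ⟨fun c => ![x, a * x * a⁻¹, b * x * b⁻¹, f c], fun c i => ?_, fun s hs c c' hi => ?_⟩
  · fin_cases i
    exacts [hx, hT.normal.conj_mem x hx _, hT.normal.conj_mem x hx _, (f c).2]
  · have e1 := trick_key hNS hNn hxN ha ha hs (hi 0) (hi 1)
    have e2 := trick_key hNS hNn hxN hb hb hs (hi 0) (hi 2)
    have e3 : ((f c : T) : A)⁻¹ * s * (f c' : T) ∈ S := hi 3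
    rcases hE s (hi 0) (mul_inv_eq_iff_eq_mul.1 e1) (mul_inv_eq_iff_eq_mul.1 e2) with h | h
    · subst h
      exact ⟨hR c c' (Or.inl e3), rfl⟩
    · subst h
      have h1 := hR c c' (Or.inr e3)
      subst h1
      exact absurd e3 (hf c)

/-- a bound for `|S ∩ T|` -/
theorem card_inf_le_pow (hNn : ∀ s ∈ S, ∀ v ∈ N, s * v * s⁻¹ ∈ N) {n : ℕ} (v : Fin n → A) (hv : ∀ i, v i ∈ N)
    (hC : ∀ t ∈ T, (∀ i, t * v i = v i * t) → t ∈ N) : Nat.card ↥(S ⊓ T) ≤ Nat.card N ^ (n + 1) := by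
  classical
  let g : ↥(S ⊓ T) → (Fin n → N) := fun t i => ⟨(t : A) * v i * (t : A)⁻¹, hNn _ (mem_inf.1 t.2).1 _ (hv i)⟩
  let r : (Fin n → N) → ↥(S ⊓ T) := Function.invFun g
  have hr : ∀ t, g (r (g t)) = g t := fun t => Function.invFun_eq ⟨t, rfl⟩
  have hN : ∀ t : ↥(S ⊓ T), ((r (g t) : ↥(S ⊓ T)) : A)⁻¹ * t ∈ N := by
    intro t
    refine hC _ (mul_mem (inv_mem (mem_inf.1 (r (g t)).2).2) (mem_inf.1 t.2).2) fun i => ?_
    have h1 : ((r (g t) : ↥(S ⊓ T)) : A) * v i * ((r (g t) : ↥(S ⊓ T)) : A)⁻¹ = (t : A) * v i * (t : A)⁻¹ :=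
      congrArg Subtype.val (congrFun (hr t) i)
    calc ((r (g t) : ↥(S ⊓ T)) : A)⁻¹ * t * v i
        = ((r (g t) : ↥(S ⊓ T)) : A)⁻¹ * ((t : A) * v i * (t : A)⁻¹) * t := by group
      _ = _ := by rw [← h1]; group
  have h1 := Nat.card_le_card_of_injective (fun t : ↥(S ⊓ T) => (g t, (⟨_, hN t⟩ : N))) (by
    intro t t' h
    have h2 : g t = g t' := congrArg Prod.fst h
    have h3 : ((r (g t) : ↥(S ⊓ T)) : A)⁻¹ * t = ((r (g t') : ↥(S ⊓ T)) : A)⁻¹ * t' :=
      congrArg (fun p : (Fin n → N) × N => (p.2 : A)) h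
    rw [h2] at h3
    exact Subtype.ext (mul_left_cancel h3))
  rwa [Nat.card_prod, Nat.card_fun, Nat.card_fin, ← pow_succ] at h1

end Cfsg.Agent.SB.B2
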