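import Cfsg.Agent.H88.FC.ThreeOdd

/-!
# S5765, `Sp₄(2^a)` with graph automorphisms: choice of parameters (helper52)

Variants of `H88.FC.exists_lam`, `H88.FC.Exc.exists_reg` without the hypothesis on cube roots of unity.
-/

set_option autoImplicit false
set_option linter.unusedSectionVars false

namespace Cfsg.Agent.SB.B2

open Matrix Cfsg.Agent.ClassicalGeometry.Sp4Graph Cfsg.Agent.H88.FC

variable {F : Type*} [Field F] [CharP F 2]

/-- a generator of `F` avoiding the eigenvalues -/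
theorem exists_lam [Finite F] (hq : 4 ≤ Nat.card F) {k₁ k₂ : F} (hk : k₁ ≠ 0) (hk2 : k₂ ≠ 0) :
    ∃ l : F, (1 + l ^ 2) ^ 2 + k₁ * (l * (1 + l ^ 2)) + k₂ * l ^ 2 ≠ 0 ∧
      ∀ φ : F ≃+* F, φ l = l → φ k₁ = k₁ → ∀ a, φ a = a := by
  have h2 : (2 : F) = 0 := CharTwo.two_eq_zero
  obtain ⟨g, hg⟩ := IsCyclic.exists_generator (α := Fˣ)
  have hfix : ∀ φ : F ≃+* F, φ g = g → ∀ a, φ a = a := by
    intro φ hφ a
    by_cases ha : a = 0
    · rw [ha, map_zero]
    · obtain ⟨k, hk⟩ := Subgroup.mem_zpowers_iff.1 (hg (Units.mk0 a ha))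
      have h4 : a = (g : F) ^ k := by
        have := congrArg Units.val hk
        rw [Units.val_zpow_eq_zpow_val] at this
        exact this.symm
      rw [h4, map_zpow₀, hφ]
  have hg0 : (g : F) ≠ 0 := g.ne_zero
  have hsq : ∀ (φ : F ≃+* F) (x : F), φ (x ^ 2) = x ^ 2 → φ x = x := by
    intro φ x hx
    rw [map_pow] at hx
    exact CharTwo.sq_injective hx
  by_contra hcon
  push Not at hcon
  have key : ∀ l : F, (∀ φ : F ≃+* F, φ l = l → ∀ a, φ a = a) →
      (1 + l ^ 2) ^ 2 + k₁ * (l * (1 + l ^ 2)) + k₂ * l ^ 2 = 0 := by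
    intro l hl
    by_contra hne
    obtain ⟨φ, h4, -, a, h5⟩ := hcon l hne
    exact h5 (hl φ h4 a)
  have e1 := key g hfix
  have e2 := key (g ^ 2) fun φ h => hfix φ (hsq φ _ h)
  have e3 := key (g ^ 4) fun φ h => hfix φ (hsq φ _ (hsq φ _ (by rw [← pow_mul]; exact h)))
  set x : F := (g : F) with hx
  set κ : F := x + x⁻¹ with hκ
  have hP : ∀ l : F, l ≠ 0 → (1 + l ^ 2) ^ 2 + k₁ * (l * (1 + l ^ 2)) + k₂ * l ^ 2 = 0 →
      (l + l⁻¹) ^ 2 + k₁ * (l + l⁻¹) + k₂ = 0 := by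
    intro l hl h
    have h4 : (l + l⁻¹) ^ 2 + k₁ * (l + l⁻¹) + k₂ =
      (l⁻¹) ^ 2 * ((1 + l ^ 2) ^ 2 + k₁ * (l * (1 + l ^ 2)) + k₂ * l ^ 2) := by
      field_simp
      ring
    rw [h4, h, mul_zero]
  have f1 := hP x hg0 e1
  have f2 := hP (x ^ 2) (pow_ne_zero 2 hg0) e2
  have f3 := hP (x ^ 4) (pow_ne_zero 4 hg0) e3
  have g2 : x ^ 2 + (x ^ 2)⁻¹ = κ ^ 2 := by
    rw [hκ, CharTwo.add_sq, inv_pow]
  have g3 : x ^ 4 + (x ^ 4)⁻¹ = κ ^ 4 := by
    rw [show (4 : ℕ) = 2 * 2 from rfl, pow_mul, pow_mul, ← g2, CharTwo.add_sq, inv_pow]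
  rw [← hκ] at f1
  rw [g2] at f2
  rw [g3] at f3
  have hg1 : x ≠ 1 := by
    intro h1
    have h4 : ∀ y : Fˣ, y = 1 := by
      intro y
      obtain ⟨k, hk⟩ := Subgroup.mem_zpowers_iff.1 (hg y)
      have h5 : g = 1 := Units.ext h1
      rw [← hk, h5, _root_.one_zpow]
    have h5 : Nat.card F ≤ 2 := by
      have : Fintype F := Fintype.ofFinite F
      rw [Nat.card_eq_fintype_card]
      classical
      have : (Finset.univ : Finset F) ⊆ {0, 1} := by
        intro t _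
        by_cases h0 : t = 0
        · simp [h0]
        · have := congrArg Units.val (h4 (Units.mk0 t h0))
          simp only [Units.val_mk0, Units.val_one] at this
          simp [this]
      exact (Finset.card_le_card this).trans (Finset.card_le_two)
    omega
  have hκ0 : κ ≠ 0 := by
    intro h0
    apply hg1
    have h4 : x * κ = x ^ 2 + 1 := by rw [hκ]; field_simp
    rw [h0, mul_zero] at h4
    have h5 : x ^ 2 = 1 ^ 2 := by linear_combination (-1 : F) * h4 - h2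
    exact CharTwo.sq_injective h5
  have hpow : ∀ (m : ℕ) (y : F), x ^ m = 1 → y ≠ 0 → y ^ m = 1 := by
    intro m y hm hy
    obtain ⟨k, hk⟩ := Subgroup.mem_zpowers_iff.1 (hg (Units.mk0 y hy))
    have h4 : y = x ^ k := by
      have := congrArg Units.val hk
      rw [Units.val_zpow_eq_zpow_val] at this
      exact this.symm
    rw [h4, ← zpow_natCast, ← _root_.zpow_mul, mul_comm, _root_.zpow_mul, zpow_natCast, hm, _root_.one_zpow]
  have hxκ : x * κ = x ^ 2 + 1 := by rw [hκ]; field_simp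
  have hκ1 : κ ≠ 1 := by
    intro h0
    rw [h0, mul_one] at hxκ
    have h4 : x ^ 3 = 1 := by linear_combination (-(x - 1)) * hxκ + (x ^ 2 - x) * h2
    have h5 := hpow 3 k₁ h4 hk
    have h6 : k₁ ≠ 1 := by
      intro h7
      apply hk2
      rw [h0, h7] at f1
      linear_combination f1 - h2
    have h7 : k₁ ^ 2 + k₁ + 1 = 0 := by
      have h8 : (k₁ - 1) * (k₁ ^ 2 + k₁ + 1) = 0 := by linear_combination h5
      exact (mul_eq_zero.1 h8).resolve_left (sub_ne_zero.2 h6)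
    have h8 : (k₁ - x) * (k₁ - x ^ 2) = 0 := by
      linear_combination h7 + h4 + k₁ * hxκ - (k₁ * x) * h2
    obtain ⟨φ, -, h9, a, h10⟩ := hcon 0 (by simp)
    apply h10
    apply hfix
    rcases mul_eq_zero.1 h8 with h11 | h11
    · rwa [sub_eq_zero.1 h11] at h9
    · rw [sub_eq_zero.1 h11] at h9
      exact hsq φ _ h9
  have hk1 : k₁ = κ ^ 2 + κ := by
    have h4 : (κ ^ 2 + κ) * (κ ^ 2 + κ + k₁) = 0 := by
      linear_combination f1 + f2 + (κ ^ 3 - k₂) * h2
    rcases mul_eq_zero.1 h4 with h5 | h5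
    · exfalso
      rcases mul_eq_zero.1 (show κ * (κ + 1) = 0 by linear_combination h5) with h6 | h6
      · exact hκ0 h6
      · exact hκ1 (CharTwo.add_eq_zero.1 h6)
    · exact (CharTwo.add_eq_zero.1 h5).symm
  have hk1' : k₁ = k₁ ^ 2 := by
    have h4 : k₁ ^ 2 * (k₁ ^ 2 + k₁) = 0 := by
      have h5 : k₁ ^ 2 = κ ^ 4 + κ ^ 2 := by rw [hk1]; linear_combination (κ ^ 3) * h2
      rw [h5]
      linear_combination f2 + f3 + (κ ^ 6 - k₂) * h2
    rcases mul_eq_zero.1 h4 with h5 | h5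
    · exact absurd (pow_eq_zero_iff (two_ne_zero) |>.1 h5) hk
    · exact (CharTwo.add_eq_zero.1 h5).symm
  have hk11 : k₁ = 1 := by
    have h4 : k₁ * (k₁ - 1) = 0 := by linear_combination (-1 : F) * hk1'
    exact sub_eq_zero.1 ((mul_eq_zero.1 h4).resolve_left hk)
  rw [hk11] at hk1
  have h3 : κ ^ 3 = 1 := by linear_combination (-(κ - 1)) * hk1 + (κ - 1) * h2
  have h4 : x ^ 4 + x ^ 3 + x ^ 2 + x + 1 = 0 := by
    linear_combination (-(x ^ 2)) * hk1 - (x * κ + x ^ 2 + 1 + x) * hxκ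
  have h5 : x ^ 5 = 1 := by linear_combination (x - 1) * h4
  have h6 := hpow 5 κ h5 hκ0
  apply hκ1
  calc κ = κ * κ ^ 5 := by rw [h6, mul_one]
    _ = (κ ^ 3) ^ 2 := by ring
    _ = 1 := by rw [h3, one_pow]

/-- the regular element in the exceptional case -/
theorem exists_reg {a b : Matrix.symplecticGroup (Fin 2) F} (h : Exc a b) {l : F} (hl0 : l ≠ 0) (hl1 : l ≠ 1)
    (hD : 1 + l + l ^ 2 ≠ 0) :
    ∃ v : Matrix.symplecticGroup (Fin 2) F, Reg v ∧ ∀ X : Matrix I4 I4 F, X * a = a * X → X * b = b * X →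
      X * v = v * X := by
  obtain ⟨hcomm, hWa, hWb, htb⟩ := h
  set A : Matrix I4 I4 F := (a : Matrix I4 I4 F) with hA
  set B : Matrix I4 I4 F := (b : Matrix I4 I4 F) with hB
  set e := W B with he
  have hAA : A * st A = 1 := mul_st a
  have hBB : B * st B = 1 := mul_st b
  have hse : st e = e := st_W B
  set f : Matrix I4 I4 F := 1 + e with hf
  have hsf : st f = f := by rw [hf, st_add, st_one, hse]
  have hef : e * f = 0 := by
    rw [hf, mul_add, mul_one, hWb]; exact CharTwo.add_self_eq_zero _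
  have hfe : f * e = 0 := by
    rw [hf, add_mul, one_mul, hWb]; exact CharTwo.add_self_eq_zero _
  have hff : f * f = f := by
    nth_rewrite 1 [hf]
    rw [add_mul, one_mul, hef, add_zero]
  have hfe1 : f + e = 1 := by
    rw [hf, add_assoc, CharTwo.add_self_eq_zero, add_zero]
  set D := 1 + l + l ^ 2 with hDd
  -- `z`
  set z : Matrix I4 I4 F := (D⁻¹ * (1 + l ^ 2)) • (1 : Matrix I4 I4 F) + (D⁻¹ * l ^ 2) • A with hz
  have hstz : st z = (D⁻¹ * (1 + l ^ 2)) • (1 : Matrix I4 I4 F) + (D⁻¹ * l ^ 2) • st A := by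
    rw [hz, st_add, st_smul, st_smul, st_one]
  have hzz : z * st z = 1 := by
    rw [hstz, hz]
    have h1 : ((D⁻¹ * (1 + l ^ 2)) • (1 : Matrix I4 I4 F) + (D⁻¹ * l ^ 2) • A) *
      ((D⁻¹ * (1 + l ^ 2)) • (1 : Matrix I4 I4 F) + (D⁻¹ * l ^ 2) • st A) =
      ((D⁻¹ * (1 + l ^ 2)) * (D⁻¹ * (1 + l ^ 2))) • (1 : Matrix I4 I4 F) + ((D⁻¹ * (1 + l ^ 2)) * (D⁻¹ * l ^ 2)) • (A + st A)
        + ((D⁻¹ * l ^ 2) * (D⁻¹ * l ^ 2)) • (A * st A) := by
      simp only [add_mul, mul_add, smul_mul_assoc, mul_smul_comm, one_mul, mul_one]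
      module
    rw [h1, hAA]
    change _ + _ • W A + _ = _
    rw [hWa, ← add_smul, ← add_smul]
    have h2 : D⁻¹ * (1 + l ^ 2) * (D⁻¹ * (1 + l ^ 2)) + D⁻¹ * (1 + l ^ 2) * (D⁻¹ * l ^ 2) + D⁻¹ * l ^ 2 * (D⁻¹ * l ^ 2) = 1 := by
      have h5 : (2 : F) = 0 := CharTwo.two_eq_zero
      have h6 : D⁻¹ * (1 + l ^ 2) * (D⁻¹ * (1 + l ^ 2)) + D⁻¹ * (1 + l ^ 2) * (D⁻¹ * l ^ 2) + D⁻¹ * l ^ 2 * (D⁻¹ * l ^ 2) =
        (D⁻¹ * D) * (D⁻¹ * D) := by
        rw [hDd]
        linear_combination ((1 + l + l ^ 2)⁻¹) ^ 2 * (l ^ 4 - l - l ^ 3) * h5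
      rw [h6, inv_mul_cancel₀ hD, mul_one]
    rw [h2, one_smul]
  have hAB' : A * st B = st B * A := comm_st (v := b) hcomm
  have hAe : A * e = e * A := by rw [he, W, mul_add, add_mul, hcomm, hAB']
  have hze : z * e = e * z := by
    rw [hz]
    simp only [add_mul, mul_add, smul_mul_assoc, mul_smul_comm, one_mul, mul_one, hAe]
  have hzf : z * f = f * z := by rw [hf, mul_add z 1 e, add_mul 1 e z, mul_one z, one_mul z, hze]
  have hBe : B * e = e * B := (W_self_comm b).symm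
  set V : Matrix I4 I4 F := z * f + B * e with hV
  have hsV : st V = f * st z + e * st B := by rw [hV, st_add, st_mul, st_mul, hsf, hse]
  have hVV : V * st V = 1 := by
    rw [hsV, hV]
    have h1 : (z * f + B * e) * (f * st z + e * st B) = z * (f * f) * st z + z * (f * e) * st B + B * (e * f) * st z
        + B * (e * e) * st B := by noncomm_ring
    rw [h1, hff, hfe, hef, hWb, mul_zero, zero_mul, mul_zero, zero_mul, add_zero, add_zero, hzf, hBe, mul_assoc, mul_assoc,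
      hzz, hBB, mul_one, mul_one, hfe1]
  set τ := D⁻¹ * l ^ 2 with hτ
  have hWz : z + st z = τ • (1 : Matrix I4 I4 F) := by
    rw [hstz, hz]
    have h1 : (D⁻¹ * (1 + l ^ 2)) • (1 : Matrix I4 I4 F) + τ • A + ((D⁻¹ * (1 + l ^ 2)) • (1 : Matrix I4 I4 F) + τ • st A)
      = ((D⁻¹ * (1 + l ^ 2)) • (1 : Matrix I4 I4 F) + (D⁻¹ * (1 + l ^ 2)) • (1 : Matrix I4 I4 F)) + τ • (A + st A) := by module
    rw [h1, CharTwo.add_self_eq_zero, zero_add]
    change τ • W A = _
    rw [hWa]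
  have hWV : W V = τ • (1 : Matrix I4 I4 F) + (τ + 1) • e := by
    rw [W, hsV, hV, hzf, hBe]
    have h1 : f * z + e * B + (f * st z + e * st B) = f * (z + st z) + e * (B + st B) := by noncomm_ring
    rw [h1, hWz]
    change _ + e * W B = _
    rw [← he, hWb, mul_smul_comm, mul_one, hf]
    module
  have hτ0 : τ ≠ 0 := mul_ne_zero (inv_ne_zero hD) (pow_ne_zero 2 hl0)
  have hτ1 : τ + 1 ≠ 0 := by
    intro h0
    have h1 : τ = 1 := CharTwo.add_eq_zero.1 h0
    apply hl1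
    have h2 : D * τ = D := by rw [h1, mul_one]
    rw [hτ, mul_inv_cancel_left₀ hD, hDd] at h2
    have h5 : (2 : F) = 0 := CharTwo.two_eq_zero
    linear_combination (-1 : F) * h2 - h5
  have htV : V.trace = τ + 1 := by
    rw [trace_W, hWV]
    have h1 := trace_W B
    rw [htb, ← he] at h1
    simp only [Matrix.add_apply, Matrix.smul_apply, Matrix.one_apply, if_true, smul_eq_mul, mul_one]
    have h5 : (2 : F) = 0 := CharTwo.two_eq_zero
    linear_combination (-(τ + 1)) * h1 + τ * h5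
  let v : Matrix.symplecticGroup (Fin 2) F := ⟨V, (mem_iff V).2 hVV⟩
  refine ⟨v, ⟨?_, ?_⟩, ?_⟩
  · change V.trace ≠ 0
    rw [htV]
    exact hτ1
  · have h1 := W_sq' v
    change W V * W V = V.trace • W V + _ at h1
    have h2 : W V * W V = (τ * τ) • (1 : Matrix I4 I4 F) + ((τ + 1) * (τ + 1)) • e := by
      rw [hWV]
      have h3 : (τ • (1 : Matrix I4 I4 F) + (τ + 1) • e) * (τ • (1 : Matrix I4 I4 F) + (τ + 1) • e) =
        (τ * τ) • (1 : Matrix I4 I4 F) + ((τ * (τ + 1)) • e + (τ * (τ + 1)) • e) + ((τ + 1) * (τ + 1)) • (e * e) := by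
        simp only [add_mul, mul_add, smul_mul_assoc, mul_smul_comm, one_mul, mul_one]
        module
      rw [h3, hWb, CharTwo.add_self_eq_zero, add_zero]
    rw [h2, htV, hWV] at h1
    intro h0
    rw [h0, zero_smul, add_zero, smul_add, smul_smul, smul_smul] at h1
    have h3 := add_right_cancel h1
    have h4 := congrFun (congrFun h3 (.inl 0)) (.inl 0)
    simp only [Matrix.smul_apply, Matrix.one_apply, if_true, smul_eq_mul, mul_one] at h4
    apply hτ0
    linear_combination (-1 : F) * h4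
  · intro X hXa hXb
    have hXe : X * e = e * X := by
      rw [he, W, mul_add, add_mul, hXb, comm_st (v := b) hXb]
    have hXf : X * f = f * X := by rw [hf, mul_add X 1 e, add_mul 1 e X, hXe, mul_one X, one_mul X]
    have hXz : X * z = z * X := by
      rw [hz]
      simp only [add_mul, mul_add, smul_mul_assoc, mul_smul_comm, one_mul, mul_one, hXa]
    change X * V = V * X
    rw [hV, mul_add X (z * f) (B * e), add_mul (z * f) (B * e) X, ← mul_assoc X z f, hXz, mul_assoc z X f, hXf,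
      ← mul_assoc z f X, ← mul_assoc X B e, hXb, mul_assoc B X e, hXe, ← mul_assoc B e X]

end Cfsg.Agent.SB.B2
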